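import Mathlib
import Groth.Agent.PBasisLib.Field
import Groth.Agent.PBasisLib.Tower

/-!
Derivations of a local ring of characteristic `p` into its residue field.
-/

set_option autoImplicit false
set_option linter.style.haveILetI false

universe u

open IsLocalRing EGA41

namespace Groth.Agent.PRootLib

variable (p : ℕ) [hp : Fact p.Prime]

theorem exists_derivation_of_notMem_range {K : Type u} [Field K] [CharP K p] {a : K}
    (ha : ∀ b : K, b ^ p ≠ a) : ∃ D : Derivation ℤ K K, D a = 1 := by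
  classical
  let k : Subfield K := (frobenius K p).fieldRange
  have hpow : ∀ b : K, b ^ p ∈ Set.range (algebraMap k K) := fun b => ⟨⟨b ^ p, b, rfl⟩, rfl⟩
  have ha' : PBasisLib.SetFree p k ({a} : Set K) := by
    rintro t (rfl : t = a) h
    rw [Set.sdiff_self] at h
    have hle : PBasisLib.Fp p k (∅ : Set K) ≤ ⊥ := by
      rw [PBasisLib.Fp, IntermediateField.adjoin_le_iff]
      rintro z (⟨w, rfl⟩ | hz)
      · exact IntermediateField.mem_bot.mpr (hpow w)
      · exact absurd hz (Set.notMem_empty z)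
    obtain ⟨⟨_, b, rfl⟩, hb⟩ := IntermediateField.mem_bot.mp (hle h)
    exact ha b hb
  obtain ⟨T, hT, -, hTb⟩ := PBasisLib.exists_isPBasis p k (Set.subset_univ _) ha'
    (eq_top_iff.mpr fun y _ => PBasisLib.subset_Fp p k _ (Set.mem_univ y))
  obtain ⟨D, ⟨-, hD⟩, -⟩ := PBasisLib.existsUnique_derivation_int hTb (L := K)
    (0 : pPowerSubalgebra p k K →+ K) (by simp) (by simp) (fun t => if (t : K) = a then 1 else 0)
  exact ⟨D, by simpa using hD ⟨a, hT (Set.mem_singleton a)⟩⟩

theorem exists_section {A : Type u} [CommRing A] [IsLocalRing A] [CharP A p] :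
    ∃ σ : ResidueField A →+* A ⧸ maximalIdeal A ^ 2, ∀ q : ResidueField A,
      Ideal.Quotient.factor (Ideal.pow_le_self two_ne_zero) (σ q) = q := by
  classical
  set m := maximalIdeal A
  set K := ResidueField A
  set Q := A ⧸ m ^ 2
  set π : Q →+* K := Ideal.Quotient.factor (Ideal.pow_le_self two_ne_zero)
  haveI : CharP K p := by
    refine (CharP.charP_iff_prime_eq_zero hp.out).mpr ?_
    rw [← map_natCast (residue A), CharP.cast_eq_zero, map_zero]
  have hπ : Function.Surjective π := Ideal.Quotient.factor_surjective _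
  have hpQ : (p : Q) = 0 := by rw [← map_natCast (Ideal.Quotient.mk (m ^ 2)), CharP.cast_eq_zero, map_zero]
  haveI : Nontrivial Q := π.domain_nontrivial
  haveI : CharP Q p := (CharP.charP_iff_prime_eq_zero hp.out).mpr hpQ
  have hwd : ∀ x y : Q, π x = π y → x ^ p = y ^ p := by
    intro x y h
    rw [← sub_eq_zero, ← sub_pow_char]
    have hmem : x - y ∈ RingHom.ker π := by rw [RingHom.mem_ker, map_sub, h, sub_self]
    obtain ⟨c, hc⟩ := Ideal.Quotient.mk_surjective (x - y)
    rw [← hc] at hmem ⊢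
    have hcm : c ∈ m := Ideal.Quotient.eq_zero_iff_mem.mp (RingHom.mem_ker.mp hmem)
    rw [← map_pow, Ideal.Quotient.eq_zero_iff_mem]
    exact Ideal.pow_le_pow_right hp.out.two_le (Ideal.pow_mem_pow hcm p)
  let k : Subfield K := (frobenius K p).fieldRange
  have hpow : ∀ b : K, b ^ p ∈ Set.range (algebraMap k K) := fun b => ⟨⟨b ^ p, b, rfl⟩, rfl⟩
  have hroot : ∀ s : pPowerSubalgebra p k K, ∃ x : Q, π x ^ p = (s : K) := by
    intro s
    obtain ⟨⟨_, b, rfl⟩, hb⟩ := (PBasisLib.mem_pPower_iff p hpow (s : K)).mp s.2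
    obtain ⟨x, rfl⟩ := hπ b
    exact ⟨x, hb⟩
  choose r hr using hroot
  have hK : ∀ x y : K, x ^ p = y ^ p → x = y := fun x y h => frobenius_inj K p h
  let φ : pPowerSubalgebra p k K →+* Q :=
    { toFun := fun s => r s ^ p
      map_one' := (hwd _ 1 (hK _ _ (by rw [hr, map_one, one_pow]; rfl))).trans (one_pow p)
      map_zero' := (hwd _ 0 (hK _ _ (by rw [hr, map_zero, zero_pow hp.out.ne_zero]; rfl))).trans (zero_pow hp.out.ne_zero)
      map_add' := fun s t => (hwd _ (r s + r t) (hK _ _ (by rw [hr, map_add, add_pow_char, hr, hr]; rfl))).trans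
        (add_pow_char _ _ _)
      map_mul' := fun s t => (hwd _ (r s * r t) (hK _ _ (by rw [hr, map_mul, mul_pow, hr, hr]; rfl))).trans
        (mul_pow _ _ _) }
  obtain ⟨T, -, -, hTb⟩ := PBasisLib.exists_isPBasis p k (L := (∅ : Set K)) (S := Set.univ) (Set.empty_subset _)
    (fun t ht => absurd ht (Set.notMem_empty t))
    (eq_top_iff.mpr fun y _ => PBasisLib.subset_Fp p k _ (Set.mem_univ y))
  obtain ⟨σ, hσ1, hσ2⟩ := PBasisLib.exists_hom hTb φ (fun t => Function.surjInv hπ (t : K)) (fun t =>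
    hwd _ _ (hK _ _ (by rw [Function.surjInv_eq hπ, hr])))
  refine ⟨σ, RingHom.congr_fun (PBasisLib.hom_ext hTb.2 (v := π.comp σ) (w := RingHom.id K) (fun s => ?_) (fun t => ?_))⟩
  · show π (σ (s : K)) = (s : K)
    rw [hσ1]
    exact (map_pow π (r s) p).trans (hr s)
  · show π (σ (t : K)) = t
    rw [hσ2, Function.surjInv_eq hπ]

theorem exists_derivation_of_dual {A : Type u} [CommRing A] [IsLocalRing A] [CharP A p]
    (φ : Module.Dual (ResidueField A) (CotangentSpace A)) :
    ∃ D : Derivation ℤ A (ResidueField A),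
      ∀ g : maximalIdeal A, D g = φ ((maximalIdeal A).toCotangent g) := by
  classical
  set m := maximalIdeal A with hm
  obtain ⟨σ, hσ⟩ := exists_section p (A := A)
  have hmem : ∀ a : A, ∃ c : A, c ∈ m ∧
      Ideal.Quotient.mk (m ^ 2) c = Ideal.Quotient.mk (m ^ 2) a - σ (residue A a) := by
    intro a
    obtain ⟨c, hc⟩ := Ideal.Quotient.mk_surjective (Ideal.Quotient.mk (m ^ 2) a - σ (residue A a))
    refine ⟨c, ?_, hc⟩
    rw [← Ideal.Quotient.eq_zero_iff_mem, ← Ideal.Quotient.factor_mk (Ideal.pow_le_self two_ne_zero : m ^ 2 ≤ m), hc,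
      map_sub, hσ, Ideal.Quotient.factor_mk]
    exact sub_self _
  choose c hcm hc using hmem
  have hlin : ∀ (r : A) (v : CotangentSpace A), φ (r • v) = residue A r * φ v := by
    intro r v
    rw [← algebraMap_smul (ResidueField A) r v, map_smul, smul_eq_mul]
    rfl
  let δ : A → ResidueField A := fun a => φ (m.toCotangent ⟨c a, hcm a⟩)
  have hcot : ∀ (x y : m), Ideal.Quotient.mk (m ^ 2) (x : A) = Ideal.Quotient.mk (m ^ 2) (y : A) →
      m.toCotangent x = m.toCotangent y := fun x y h => (Ideal.toCotangent_eq m).mpr (Ideal.Quotient.eq.mp h)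
  have hadd : ∀ a b, δ (a + b) = δ a + δ b := by
    intro a b
    rw [show δ a + δ b = φ (m.toCotangent (⟨c a, hcm a⟩ + ⟨c b, hcm b⟩ : m)) by rw [map_add, map_add]]
    refine congrArg φ (hcot _ _ ?_)
    rw [Submodule.coe_add, map_add, hc, hc, hc, map_add, map_add, map_add]
    abel
  have hmul : ∀ a b, δ (a * b) = a • δ b + b • δ a := by
    intro a b
    rw [Algebra.smul_def, Algebra.smul_def, IsLocalRing.ResidueField.algebraMap_eq, ← hlin, ← hlin, ← map_smul, ← map_smul, ← map_add φ, ← map_add m.toCotangent]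
    refine congrArg φ (hcot _ _ ?_)
    rw [Submodule.coe_add, Submodule.coe_smul, Submodule.coe_smul, smul_eq_mul, smul_eq_mul, map_add, map_mul, map_mul,
      hc, hc, hc, map_mul, map_mul, map_mul]
    have h0 : (Ideal.Quotient.mk (m ^ 2) a - σ (residue A a)) * (Ideal.Quotient.mk (m ^ 2) b - σ (residue A b)) = 0 := by
      rw [← hc, ← hc, ← map_mul, Ideal.Quotient.eq_zero_iff_mem, pow_two]
      exact Ideal.mul_mem_mul (hcm a) (hcm b)
    linear_combination -h0
  let D : Derivation ℤ A (ResidueField A) :=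
    Derivation.mk' (AddMonoidHom.mk' δ hadd).toIntLinearMap (fun a b => hmul a b)
  refine ⟨D, fun g => ?_⟩
  show δ g = _
  refine congrArg φ (hcot _ _ ?_)
  rw [hc, show residue A (g : A) = 0 from Ideal.Quotient.eq_zero_iff_mem.mpr g.2, map_zero, sub_zero]

theorem exists_derivation_of_notMem_sq {A : Type u} [CommRing A] [IsLocalRing A] [CharP A p]
    {g : A} (hg : g ∈ maximalIdeal A) (hg2 : g ∉ maximalIdeal A ^ 2) :
    ∃ D : Derivation ℤ A (ResidueField A), D g ≠ 0 := by
  have hg0 : (maximalIdeal A).toCotangent ⟨g, hg⟩ ≠ 0 := fun h => hg2 ((Ideal.toCotangent_eq_zero _ _).mp h)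
  obtain ⟨φ, hφ⟩ := Module.Projective.exists_dual_ne_zero (ResidueField A)
    (x := ((maximalIdeal A).toCotangent ⟨g, hg⟩ : CotangentSpace A)) hg0
  obtain ⟨D, hD⟩ := exists_derivation_of_dual p φ
  exact ⟨D, (hD ⟨g, hg⟩).symm ▸ hφ⟩

end Groth.Agent.PRootLib
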