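import Mathlib
import Groth.Agent.PRootLib.Deriv

/-!
Detecting bases of the cotangent space by derivations.
-/

set_option autoImplicit false
set_option linter.style.haveILetI false

universe u

open IsLocalRing

namespace Groth.Agent.PRootLib

variable {R : Type u} [CommRing R] [IsLocalRing R]

theorem derivation_eq_zero_of_mem_sq (D : Derivation ℤ R (ResidueField R)) {y : R}
    (hy : y ∈ maximalIdeal R ^ 2) : D y = 0 := by
  rw [pow_two] at hy
  refine Submodule.mul_induction_on hy (fun a ha b hb => ?_) (fun a b ha hb => by rw [map_add, ha, hb, add_zero])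
  rw [D.leibniz, Algebra.smul_def, Algebra.smul_def, ResidueField.algebraMap_eq,
    (residue_eq_zero_iff a).mpr ha, (residue_eq_zero_iff b).mpr hb, zero_mul, zero_mul, add_zero]

theorem finrank_cotangent_eq_card {ι : Type*} [Fintype ι] [DecidableEq ι] (x : ι → R)
    (hx : ∀ i, x i ∈ maximalIdeal R)
    (hspan : maximalIdeal R ≤ Ideal.span (Set.range x) ⊔ maximalIdeal R ^ 2)
    (hD : ∀ j, ∃ D : Derivation ℤ R (ResidueField R), ∀ i, D (x i) = if i = j then 1 else 0) :
    Module.finrank (ResidueField R) (CotangentSpace R) = Fintype.card ι := by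
  let v : ι → CotangentSpace R := fun i => (maximalIdeal R).toCotangent ⟨x i, hx i⟩
  have hli : LinearIndependent (ResidueField R) v := by
    rw [Fintype.linearIndependent_iff]
    intro c hc j
    choose r hr using fun i => residue_surjective (R := R) (c i)
    obtain ⟨D, hDj⟩ := hD j
    have hmem : ∑ i, r i * x i ∈ maximalIdeal R ^ 2 := by
      have h0 : (maximalIdeal R).toCotangent (∑ i, r i • (⟨x i, hx i⟩ : maximalIdeal R)) = 0 := by
        rw [map_sum, ← hc]
        refine Finset.sum_congr rfl fun i _ => ?_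
        rw [map_smul, ← hr i, ← ResidueField.algebraMap_eq, algebraMap_smul]
      have h1 := (Ideal.toCotangent_eq_zero _ _).mp h0
      simpa using h1
    have h := derivation_eq_zero_of_mem_sq D hmem
    rw [map_sum, Finset.sum_eq_single_of_mem j (Finset.mem_univ j)] at h
    · rw [D.leibniz, hDj, if_pos rfl, Algebra.smul_def, Algebra.smul_def, ResidueField.algebraMap_eq,
        (residue_eq_zero_iff (x j)).mpr (hx j), zero_mul, add_zero, mul_one, hr] at h
      exact h
    · intro i _ hij
      rw [D.leibniz, hDj, if_neg hij, smul_zero, Algebra.smul_def, ResidueField.algebraMap_eq,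
        (residue_eq_zero_iff (x i)).mpr (hx i), zero_mul, add_zero]
  have hsp : ⊤ ≤ Submodule.span (ResidueField R) (Set.range v) := by
    intro w _
    obtain ⟨⟨y, hy⟩, rfl⟩ := (maximalIdeal R).toCotangent_surjective w
    obtain ⟨a, ha, b, hb, rfl⟩ := Submodule.mem_sup.mp (hspan hy)
    obtain ⟨c, rfl⟩ := (Ideal.mem_span_range_iff_exists_fun).mp ha
    rw [show (maximalIdeal R).toCotangent ⟨∑ i, c i * x i + b, hy⟩ =
        (maximalIdeal R).toCotangent (∑ i, c i • (⟨x i, hx i⟩ : maximalIdeal R)) from
      (Ideal.toCotangent_eq _).mpr (by simpa using hb), map_sum]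
    refine Submodule.sum_mem _ fun i _ => ?_
    rw [map_smul, ← algebraMap_smul (ResidueField R) (c i)]
    exact Submodule.smul_mem _ _ (Submodule.subset_span ⟨i, rfl⟩)
  exact Module.finrank_eq_card_basis (Module.Basis.mk hli hsp)

theorem le_span_of_basis {ι : Type*} [Fintype ι] (b : Module.Basis ι (ResidueField R) (CotangentSpace R))
    (x : ι → maximalIdeal R) (hx : ∀ i, (maximalIdeal R).toCotangent (x i) = b i) :
    maximalIdeal R ≤ Ideal.span (Set.range fun i => (x i : R)) ⊔ maximalIdeal R ^ 2 := by
  intro y hy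
  choose r hr using fun i => residue_surjective (R := R) (b.repr ((maximalIdeal R).toCotangent ⟨y, hy⟩) i)
  refine Submodule.mem_sup.mpr ⟨∑ i, r i * (x i : R),
    Ideal.sum_mem _ fun i _ => Ideal.mul_mem_left _ _ (Ideal.subset_span ⟨i, rfl⟩),
    y - ∑ i, r i * (x i : R), ?_, add_sub_cancel _ _⟩
  have h : (maximalIdeal R).toCotangent ⟨y, hy⟩ = (maximalIdeal R).toCotangent (∑ i, r i • x i) := by
    conv_lhs => rw [← b.sum_repr ((maximalIdeal R).toCotangent ⟨y, hy⟩)]
    rw [map_sum]
    refine Finset.sum_congr rfl fun i _ => ?_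
    rw [map_smul, hx, ← hr, ← ResidueField.algebraMap_eq, algebraMap_smul]
  simpa using (Ideal.toCotangent_eq _).mp h

theorem derivations_of_basis (p : ℕ) [Fact p.Prime] [CharP R p] {ι : Type*} [DecidableEq ι]
    (b : Module.Basis ι (ResidueField R) (CotangentSpace R))
    (x : ι → maximalIdeal R) (hx : ∀ i, (maximalIdeal R).toCotangent (x i) = b i) (j : ι) :
    ∃ D : Derivation ℤ R (ResidueField R), ∀ i, D (x i : R) = if i = j then 1 else 0 := by
  obtain ⟨D, hD⟩ := exists_derivation_of_dual p (b.coord j)
  refine ⟨D, fun i => ?_⟩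
  rw [hD, hx, Module.Basis.coord_apply, Module.Basis.repr_self, Finsupp.single_apply]

end Groth.Agent.PRootLib
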