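import Mathlib
import Groth.Agent.PRootLib.Cotangent

/-!
Adjoining one `p`th root to a local ring of characteristic `p`.
-/

set_option autoImplicit false
set_option linter.style.haveILetI false

universe u

open IsLocalRing Polynomial

namespace Groth.Agent.PRootLib

variable (p : ℕ) [hp : Fact p.Prime]

theorem eq_zero_of_eval_eq_zero {K : Type u} [Field K] [CharP K p] (D : Derivation ℤ K K) {a : K}
    (ha : D a = 1) (P : K[X]) (hc : ∀ k, D (P.coeff k) = 0) (hdeg : P.natDegree < p) (h0 : P.eval a = 0) :
    P = 0 := by
  induction hn : P.natDegree using Nat.strong_induction_on generalizing P with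
  | _ n ih =>
    by_cases hn0 : n = 0
    · rw [Polynomial.eq_C_of_natDegree_eq_zero (hn.trans hn0), eval_C] at h0
      rw [Polynomial.eq_C_of_natDegree_eq_zero (hn.trans hn0), h0, map_zero]
    have hder : P.derivative.eval a = 0 := by
      have h1 := congrArg D h0
      rw [map_zero, Polynomial.eval_eq_sum_range, map_sum] at h1
      rw [Polynomial.derivative_apply, Polynomial.sum_over_range P (f := fun n a => C (a * (n : K)) * X ^ (n - 1)) (by simp), Polynomial.eval_finset_sum, ← h1]
      refine Finset.sum_congr rfl fun k _ => ?_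
      rw [D.leibniz, hc, smul_zero, add_zero, Derivation.leibniz_pow, ha, eval_mul, eval_C, eval_pow, eval_X,
        smul_eq_mul, smul_eq_mul, mul_one, nsmul_eq_mul]
      ring
    have hzero := ih P.derivative.natDegree
      (by rw [← hn]; exact Polynomial.natDegree_derivative_lt (hn ▸ hn0)) P.derivative
      (fun k => by rw [Polynomial.coeff_derivative, D.leibniz, hc, smul_zero, add_zero, map_add, D.map_natCast,
        D.map_one_eq_zero, add_zero, smul_zero])
      (lt_of_lt_of_le (Polynomial.natDegree_derivative_lt (hn ▸ hn0)) hdeg.le) hder rfl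
    exfalso
    have h2 := congrArg (fun Q : K[X] => Q.coeff (n - 1)) hzero
    simp only [Polynomial.coeff_derivative, coeff_zero] at h2
    rw [Nat.sub_add_cancel (Nat.one_le_iff_ne_zero.mpr hn0), mul_eq_zero] at h2
    rcases h2 with h2 | h2
    · exact hn0 (by rw [← hn, Polynomial.leadingCoeff_eq_zero.mp (show P.leadingCoeff = 0 by rw [Polynomial.leadingCoeff, hn]; exact h2), natDegree_zero])
    · rw [← Nat.cast_add_one, Nat.sub_add_cancel (Nat.one_le_iff_ne_zero.mpr hn0), CharP.cast_eq_zero_iff K p] at h2
      exact absurd (Nat.le_of_dvd (Nat.pos_of_ne_zero hn0) h2) (by omega)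

variable {A : Type u} [CommRing A] [IsLocalRing A] [CharP A p] (f : A)

/-- `A[T]/(T^p - f)`. -/
abbrev Root : Type u := AdjoinRoot (X ^ p - C f)

theorem root_pow : (AdjoinRoot.root (X ^ p - C f) : Root p f) ^ p = algebraMap A (Root p f) f := by
  have h := AdjoinRoot.eval₂_root (X ^ p - C f)
  rw [eval₂_sub, eval₂_pow, eval₂_X, eval₂_C, sub_eq_zero] at h
  exact h

theorem algebraMap_injective : Function.Injective (algebraMap A (Root p f)) := by
  rw [injective_iff_map_eq_zero]
  intro a ha
  have hmonic : (X ^ p - C f).Monic := monic_X_pow_sub_C _ hp.out.ne_zero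
  have h1 : C a %ₘ (X ^ p - C f) = 0 := (modByMonic_eq_zero_iff_dvd hmonic).mpr (AdjoinRoot.mk_eq_zero.mp ha)
  rw [(modByMonic_eq_self_iff hmonic).mpr (lt_of_le_of_lt degree_C_le (by
    rw [degree_X_pow_sub_C hp.out.pos]; exact_mod_cast hp.out.pos))] at h1
  exact C_eq_zero.mp h1

instance : CharP (Root p f) p := charP_of_injective_algebraMap (algebraMap_injective p f) p

instance : Module.Finite A (Root p f) := (monic_X_pow_sub_C f hp.out.ne_zero).finite_adjoinRoot

instance : Nontrivial (Root p f) := (algebraMap_injective p f).nontrivial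

theorem pow_eq_algebraMap (P : A[X]) :
    (AdjoinRoot.mk (X ^ p - C f) P : Root p f) ^ p = algebraMap A _ ((P.map (frobenius A p)).eval f) := by
  induction P using Polynomial.induction_on' with
  | add P Q hP hQ => rw [map_add, add_pow_char, hP, hQ, Polynomial.map_add, eval_add, map_add]
  | monomial k a =>
    rw [Polynomial.map_monomial, eval_monomial, ← Polynomial.C_mul_X_pow_eq_monomial, map_mul, map_pow,
      AdjoinRoot.mk_C, AdjoinRoot.mk_X, mul_pow, pow_right_comm, root_pow, frobenius_def, map_mul, map_pow, map_pow]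
    rfl

theorem pow_mem_range (b : Root p f) : ∃ a : A, algebraMap A (Root p f) a = b ^ p := by
  obtain ⟨P, rfl⟩ := AdjoinRoot.mk_surjective b
  exact ⟨_, (pow_eq_algebraMap p f P).symm⟩

theorem isUnit_algebraMap_iff (a : A) : IsUnit (algebraMap A (Root p f) a) ↔ IsUnit a := by
  refine ⟨fun h => ?_, fun h => h.map _⟩
  obtain ⟨w, hw⟩ := isUnit_iff_exists_inv.mp h
  obtain ⟨d, hd⟩ := pow_mem_range p f w
  refine (isUnit_pow_iff hp.out.ne_zero).mp (IsUnit.of_mul_eq_one d (algebraMap_injective p f ?_))
  rw [map_mul, map_pow, hd, ← mul_pow, hw, one_pow, map_one]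

theorem isUnit_iff_pow (b : Root p f) {a : A} (ha : algebraMap A (Root p f) a = b ^ p) : IsUnit b ↔ IsUnit a := by
  rw [← isUnit_algebraMap_iff p f, ha, isUnit_pow_iff hp.out.ne_zero]

instance instIsLocalRing : IsLocalRing (Root p f) := by
  refine IsLocalRing.of_nonunits_add fun b c hb hc h => ?_
  obtain ⟨b', hb'⟩ := pow_mem_range p f b
  obtain ⟨c', hc'⟩ := pow_mem_range p f c
  rw [mem_nonunits_iff, isUnit_iff_pow p f b hb'] at hb
  rw [mem_nonunits_iff, isUnit_iff_pow p f c hc'] at hc
  rw [isUnit_iff_pow p f (b + c) (a := b' + c') (by rw [map_add, hb', hc', add_pow_char])] at h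
  exact IsLocalRing.nonunits_add hb hc h

instance : IsLocalHom (algebraMap A (Root p f)) := ⟨fun a ha => (isUnit_algebraMap_iff p f a).mp ha⟩

theorem mem_maximalIdeal_iff (b : Root p f) {a : A} (ha : algebraMap A (Root p f) a = b ^ p) :
    b ∈ maximalIdeal (Root p f) ↔ a ∈ maximalIdeal A := by
  rw [IsLocalRing.mem_maximalIdeal, IsLocalRing.mem_maximalIdeal, mem_nonunits_iff, mem_nonunits_iff,
    isUnit_iff_pow p f b ha]

theorem algebraMap_mem_maximalIdeal {a : A} (ha : a ∈ maximalIdeal A) :
    algebraMap A (Root p f) a ∈ maximalIdeal (Root p f) := by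
  rw [IsLocalRing.mem_maximalIdeal, mem_nonunits_iff] at ha ⊢
  rwa [isUnit_algebraMap_iff]

/-- Derivations killing `f` extend to the root ring. -/
theorem exists_extension (D : Derivation ℤ A (ResidueField A)) (hD : D f = 0) (w : ResidueField (Root p f)) :
    ∃ D' : Derivation ℤ (Root p f) (ResidueField (Root p f)),
      (∀ a : A, D' (algebraMap A _ a) = ResidueField.map (algebraMap A (Root p f)) (D a)) ∧
        D' (AdjoinRoot.root _) = w := by
  set ι := ResidueField.map (algebraMap A (Root p f))
  have hι : ∀ a : A, ι (residue A a) = residue _ (algebraMap A (Root p f) a) := fun a => ResidueField.map_residue _ a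
  let φ : A →+* TrivSqZeroExt (ResidueField (Root p f)) (ResidueField (Root p f)) :=
    { toFun := fun a => TrivSqZeroExt.inl (residue _ (algebraMap A (Root p f) a)) + TrivSqZeroExt.inr (ι (D a))
      map_one' := by
        apply TrivSqZeroExt.ext
        · simp only [TrivSqZeroExt.fst_add, TrivSqZeroExt.fst_inl, TrivSqZeroExt.fst_inr, TrivSqZeroExt.fst_one, add_zero, map_one]
        · simp only [TrivSqZeroExt.snd_add, TrivSqZeroExt.snd_inl, TrivSqZeroExt.snd_inr, TrivSqZeroExt.snd_one, zero_add,
            D.map_one_eq_zero, map_zero]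
      map_zero' := by
        apply TrivSqZeroExt.ext
        · simp only [TrivSqZeroExt.fst_add, TrivSqZeroExt.fst_inl, TrivSqZeroExt.fst_inr, TrivSqZeroExt.fst_zero, add_zero, map_zero]
        · simp only [TrivSqZeroExt.snd_add, TrivSqZeroExt.snd_inl, TrivSqZeroExt.snd_inr, TrivSqZeroExt.snd_zero, zero_add, map_zero]
      map_add' := fun a b => by
        apply TrivSqZeroExt.ext
        · simp only [TrivSqZeroExt.fst_add, TrivSqZeroExt.fst_inl, TrivSqZeroExt.fst_inr, add_zero, map_add]
        · simp only [TrivSqZeroExt.snd_add, TrivSqZeroExt.snd_inl, TrivSqZeroExt.snd_inr, zero_add, map_add]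
      map_mul' := fun a b => by
        apply TrivSqZeroExt.ext
        · simp only [TrivSqZeroExt.fst_add, TrivSqZeroExt.fst_inl, TrivSqZeroExt.fst_inr, TrivSqZeroExt.fst_mul, add_zero, map_mul]
        · simp only [TrivSqZeroExt.snd_add, TrivSqZeroExt.snd_inl, TrivSqZeroExt.snd_inr, TrivSqZeroExt.snd_mul,
            TrivSqZeroExt.fst_add, TrivSqZeroExt.fst_inl, TrivSqZeroExt.fst_inr, add_zero, zero_add, D.leibniz,
            Algebra.smul_def, ResidueField.algebraMap_eq, map_add, map_mul, hι, smul_eq_mul, MulOpposite.smul_eq_mul_unop,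
            MulOpposite.unop_op, Algebra.algebraMap_self, RingHom.id_apply]
          ring }
  have hpL : (p : (ResidueField (Root p f))) = 0 := by rw [← map_natCast (residue (Root p f)), CharP.cast_eq_zero, map_zero]
  have hroot : eval₂ φ (TrivSqZeroExt.inl (residue _ (AdjoinRoot.root (X ^ p - C f))) + TrivSqZeroExt.inr w)
      (X ^ p - C f) = 0 := by
    rw [eval₂_sub, eval₂_pow, eval₂_X, eval₂_C, sub_eq_zero]
    apply TrivSqZeroExt.ext
    · rw [TrivSqZeroExt.fst_pow]
      simp [φ, ← map_pow, root_pow]
    · rw [TrivSqZeroExt.snd_pow]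
      simp [φ, hD, nsmul_eq_mul, hpL]
  let ψ := AdjoinRoot.lift φ _ hroot
  have hfst : (TrivSqZeroExt.fstHom (ResidueField (Root p f)) (ResidueField (Root p f)) (ResidueField (Root p f))).toRingHom.comp ψ = residue (Root p f) := by
    apply RingHom.ext
    intro b
    obtain ⟨P, rfl⟩ := AdjoinRoot.mk_surjective b
    induction P using Polynomial.induction_on with
    | C a => simp [ψ, φ]
    | add P Q hP hQ => rw [map_add, map_add, map_add, hP, hQ]
    | monomial k a h =>
      rw [pow_succ, ← mul_assoc, map_mul, map_mul, h, map_mul (residue (Root p f)) _ (AdjoinRoot.mk _ X)]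
      simp [ψ]
  have hfst' : ∀ b, TrivSqZeroExt.fst (ψ b) = residue _ b := fun b => RingHom.congr_fun hfst b
  let D' : Derivation ℤ (Root p f) (ResidueField (Root p f)) := Derivation.mk'
    (AddMonoidHom.mk' (fun b => TrivSqZeroExt.snd (ψ b)) (fun a b => by simp)).toIntLinearMap
    (fun a b => by
      simp only [AddMonoidHom.coe_toIntLinearMap, AddMonoidHom.mk'_apply, map_mul, TrivSqZeroExt.snd_mul, hfst',
        Algebra.smul_def, ResidueField.algebraMap_eq, smul_eq_mul, MulOpposite.smul_eq_mul_unop, MulOpposite.unop_op,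
        Algebra.algebraMap_self, RingHom.id_apply]
      ring)
  exact ⟨D', fun a => by simp [D', ψ, φ], by simp [D', ψ]⟩

set_option backward.isDefEq.respectTransparency false in
open scoped Classical in
theorem finrank_cotangent_root [IsNoetherianRing A] :
    Module.finrank (ResidueField (Root p f)) (CotangentSpace (Root p f)) =
      Module.finrank (ResidueField A) (CotangentSpace A) +
        if ∃ D : Derivation ℤ A (ResidueField A), D f ≠ 0 then 0 else 1 := by
  have hmap : ∀ {a : A}, a ∈ maximalIdeal A ^ 2 → algebraMap A (Root p f) a ∈ maximalIdeal (Root p f) ^ 2 := by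
    intro a ha
    refine Ideal.pow_right_mono ?_ 2 (Ideal.map_pow (algebraMap A (Root p f)) (maximalIdeal A) 2 ▸ Ideal.mem_map_of_mem _ ha)
    rw [Ideal.map_le_iff_le_comap]
    exact fun a ha => algebraMap_mem_maximalIdeal p f ha
  haveI : CharP (ResidueField A) p := by
    refine (CharP.charP_iff_prime_eq_zero hp.out).mpr ?_
    rw [← map_natCast (residue A), CharP.cast_eq_zero, map_zero]
  have hD0 : ∀ (D : Derivation ℤ A (ResidueField A)) (a : A), D (a ^ p) = 0 := fun D a => by
    rw [Derivation.leibniz_pow, nsmul_eq_mul, CharP.cast_eq_zero, zero_mul]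
  -- the maximal ideal is contained in the span of `T` and of a system of generators
  have hspanA : ∀ {κ : Type u} [Fintype κ] (x : κ → A),
      maximalIdeal A ≤ Ideal.span (Set.range x) ⊔ maximalIdeal A ^ 2 →
      ∀ a ∈ maximalIdeal A, algebraMap A (Root p f) a ∈
        Ideal.span (Set.range fun i => algebraMap A (Root p f) (x i)) ⊔ maximalIdeal (Root p f) ^ 2 := by
    intro κ _ x hx a ha
    obtain ⟨s, hs, t, ht, rfl⟩ := Submodule.mem_sup.mp (hx ha)
    rw [map_add]
    refine Submodule.add_mem_sup ?_ (hmap ht)
    have := Ideal.mem_map_of_mem (algebraMap A (Root p f)) hs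
    rwa [Ideal.map_span, ← Set.range_comp] at this
  let b₀ := Module.finBasis (ResidueField A) (CotangentSpace A)
  by_cases hres : ∃ a, residue A a ^ p = residue A f
  · obtain ⟨a, ha⟩ := hres
    set g := f - a ^ p with hgdef
    have hg : g ∈ maximalIdeal A := by
      rw [← residue_eq_zero_iff, map_sub, map_pow, ha, sub_self]
    set t : (Root p f) := AdjoinRoot.root (X ^ p - C f) - algebraMap A (Root p f) a with htdef
    have htp : t ^ p = algebraMap A (Root p f) g := by
      rw [htdef, sub_pow_char, root_pow, hgdef, map_sub, map_pow]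
    have ht : t ∈ maximalIdeal (Root p f) := (mem_maximalIdeal_iff p f t htp.symm).mpr hg
    have hDfg : ∀ D : Derivation ℤ A (ResidueField A), D g = D f := fun D => by rw [hgdef, map_sub, hD0, sub_zero]
    have hspanB : ∀ {κ : Type u} [Fintype κ] (x : κ → A),
        maximalIdeal A ≤ Ideal.span (Set.range x) ⊔ maximalIdeal A ^ 2 →
        maximalIdeal (Root p f) ≤ (Ideal.span (Set.range fun i => algebraMap A (Root p f) (x i)) ⊔ Ideal.span {t}) ⊔ maximalIdeal (Root p f) ^ 2 := by
      intro κ _ x hx b hb
      obtain ⟨P, rfl⟩ := AdjoinRoot.mk_surjective b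
      obtain ⟨Q, hQ⟩ := Polynomial.X_sub_C_dvd_sub_C_eval (p := P) (a := a)
      have hb' : AdjoinRoot.mk (X ^ p - C f) P = algebraMap A (Root p f) (P.eval a) + t * AdjoinRoot.mk _ Q := by
        conv_lhs => rw [← add_sub_cancel (C (P.eval a)) P, hQ]
        rw [map_add, map_mul, map_sub, AdjoinRoot.mk_X, AdjoinRoot.mk_C, AdjoinRoot.mk_C]
        rfl
      have hPa : P.eval a ∈ maximalIdeal A := by
        have h1 : algebraMap A (Root p f) (P.eval a) ∈ maximalIdeal (Root p f) := by
          rw [eq_sub_of_add_eq hb'.symm]
          exact (maximalIdeal (Root p f)).sub_mem hb (Ideal.mul_mem_right _ _ ht)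
        rw [IsLocalRing.mem_maximalIdeal, mem_nonunits_iff, isUnit_algebraMap_iff] at h1
        exact h1
      rw [hb']
      refine Ideal.add_mem _ ?_ (Ideal.mem_sup_left (Ideal.mem_sup_right (Ideal.mul_mem_right _ _ (Ideal.mem_span_singleton_self t))))
      exact (sup_le_sup_right le_sup_left (maximalIdeal (Root p f) ^ 2) : _ ≤ _) (hspanA x hx _ hPa)
    by_cases hg2 : g ∈ maximalIdeal A ^ 2
    · rw [if_neg (fun ⟨D, hD⟩ => hD (by rw [← hDfg, derivation_eq_zero_of_mem_sq D hg2]))]
      choose x hx using fun i => (maximalIdeal A).toCotangent_surjective (b₀ i)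
      let y : Option (ULift.{u} (Fin (Module.finrank (ResidueField A) (CotangentSpace A)))) → (Root p f) :=
        fun o => o.elim t fun i => algebraMap A (Root p f) (x i.down)
      have hspan : maximalIdeal (Root p f) ≤ Ideal.span (Set.range y) ⊔ maximalIdeal (Root p f) ^ 2 := by
        refine (hspanB (κ := ULift (Fin _)) (fun i => (x i.down : A)) ?_).trans (sup_le_sup_right (sup_le ?_ ?_) _)
        · refine (le_span_of_basis b₀ x hx).trans (sup_le_sup_right (Ideal.span_mono ?_) _)
          rintro _ ⟨i, rfl⟩
          exact ⟨⟨i⟩, rfl⟩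
        · refine Ideal.span_mono ?_
          rintro _ ⟨i, rfl⟩
          exact ⟨some i, rfl⟩
        · exact Ideal.span_mono (Set.singleton_subset_iff.mpr ⟨none, rfl⟩)
      rw [finrank_cotangent_eq_card y (fun o => ?_) hspan (fun o => ?_)]
      · simp
      · rcases o with - | i
        · exact ht
        · exact algebraMap_mem_maximalIdeal p f (x i.down).2
      · rcases o with - | j
        · obtain ⟨D', hD'A, hD'T⟩ := exists_extension p f 0 (by simp) 1
          refine ⟨D', fun o => ?_⟩
          rcases o with - | i
          · show D' t = _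
            rw [htdef, map_sub, hD'T, hD'A, if_pos rfl]
            simp
          · show D' (algebraMap A (Root p f) (x i.down)) = _
            rw [hD'A, if_neg (by simp)]
            simp
        · obtain ⟨D, hD⟩ := derivations_of_basis p b₀ x hx j.down
          have hDf : D f = 0 := by rw [← hDfg, derivation_eq_zero_of_mem_sq D hg2]
          obtain ⟨D', hD'A, hD'T⟩ := exists_extension p f D hDf ((ResidueField.map (algebraMap A (Root p f))) (D a))
          refine ⟨D', fun o => ?_⟩
          rcases o with - | i
          · show D' t = _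
            rw [htdef, map_sub, hD'T, hD'A, sub_self, if_neg (by simp)]
          · show D' (algebraMap A (Root p f) (x i.down)) = _
            rw [hD'A, hD]
            by_cases hij : i = j
            · subst hij; simp
            · rw [if_neg (fun h => hij (ULift.ext _ _ h)), if_neg (by simpa using hij), map_zero]
    · obtain ⟨D₁, hD₁⟩ := exists_derivation_of_notMem_sq p hg hg2
      rw [if_pos ⟨D₁, fun h => hD₁ (by rw [hDfg, h])⟩, add_zero]
      have hg0 : (maximalIdeal A).toCotangent ⟨g, hg⟩ ≠ 0 := fun h => hg2 ((Ideal.toCotangent_eq_zero _ _).mp h)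
      have hli : LinearIndepOn (ResidueField A) id
          ({(maximalIdeal A).toCotangent ⟨g, hg⟩} : Set (CotangentSpace A)) := LinearIndepOn.singleton (v := id) hg0
      let b := Module.Basis.extend hli
      haveI : Fintype (hli.extend (Set.subset_univ _) : Set (CotangentSpace A)) := FiniteDimensional.fintypeBasisIndex b
      let i₀ : (hli.extend (Set.subset_univ _) : Set (CotangentSpace A)) := ⟨_, hli.subset_extend _ (Set.mem_singleton _)⟩
      have hb : b i₀ = (maximalIdeal A).toCotangent ⟨g, hg⟩ := Module.Basis.extend_apply_self hli i₀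
      choose x' hx' using fun i => (maximalIdeal A).toCotangent_surjective (b i)
      let x := Function.update x' i₀ ⟨g, hg⟩
      have hx : ∀ i, (maximalIdeal A).toCotangent (x i) = b i := fun i => by
        by_cases hi : i = i₀
        · subst hi; simp [x, hb]
        · simp [x, hi, hx']
      let y : (hli.extend (Set.subset_univ _) : Set (CotangentSpace A)) → (Root p f) :=
        Function.update (fun i => algebraMap A (Root p f) (x i)) i₀ t
      have hspan : maximalIdeal (Root p f) ≤ Ideal.span (Set.range y) ⊔ maximalIdeal (Root p f) ^ 2 := by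
        refine (hspanB (fun i => (x i : A)) (le_span_of_basis b x hx)).trans (sup_le (sup_le ?_ ?_) le_sup_right)
        · rw [Ideal.span_le]
          rintro _ ⟨i, rfl⟩
          by_cases hi : i = i₀
          · subst hi
            show algebraMap A (Root p f) (x i₀ : A) ∈ _
            refine Ideal.mem_sup_right ?_
            rw [show (x i₀ : A) = g by simp [x], ← htp]
            exact Ideal.pow_le_pow_right hp.out.two_le (Ideal.pow_mem_pow ht p)
          · exact Ideal.mem_sup_left (Ideal.subset_span ⟨i, by simp [y, hi]⟩)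
        · exact (Ideal.span_mono (t := Set.range y) (Set.singleton_subset_iff.mpr ⟨i₀, by simp [y]⟩)).trans le_sup_left
      rw [finrank_cotangent_eq_card y (fun i => ?_) hspan (fun j => ?_), ← Module.finrank_eq_card_basis b]
      · by_cases hi : i = i₀
        · subst hi; simpa [y] using ht
        · simpa [y, hi] using algebraMap_mem_maximalIdeal p f (x i).2
      · by_cases hj : j = i₀
        · subst hj
          obtain ⟨D', hD'A, hD'T⟩ := exists_extension p f 0 (by simp) 1
          refine ⟨D', fun i => ?_⟩
          by_cases hi : i = i₀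
          · subst hi
            rw [show y i₀ = t by simp [y], htdef, map_sub, hD'T]
            rw [show D' (algebraMap A (Root p f) a) = 0 from (hD'A a).trans (by simp), sub_zero, if_pos rfl]
          · rw [show y i = algebraMap A (Root p f) (x i) by simp [y, hi], if_neg hi]
            exact (hD'A _).trans (by simp)
        · obtain ⟨D, hD⟩ := derivations_of_basis p b x hx j
          have hDf : D f = 0 := by
            rw [← hDfg, show g = (x i₀ : A) by simp [x], hD, if_neg (Ne.symm hj)]
          obtain ⟨D', hD'A, hD'T⟩ := exists_extension p f D hDf ((ResidueField.map (algebraMap A (Root p f))) (D a))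
          refine ⟨D', fun i => ?_⟩
          by_cases hi : i = i₀
          · subst hi
            rw [show y i₀ = t by simp [y], htdef, map_sub, hD'T, if_neg (Ne.symm hj)]
            rw [show D' (algebraMap A (Root p f) a) = _ from hD'A a, sub_self]
          · rw [show y i = algebraMap A (Root p f) (x i) by simp [y, hi]]
            refine (hD'A _).trans ?_
            rw [hD]
            split_ifs <;> simp
  · obtain ⟨DK, hDK⟩ := exists_derivation_of_notMem_range p (K := ResidueField A) (a := residue A f) (fun b hb => by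
      obtain ⟨c, rfl⟩ := residue_surjective (R := A) b
      exact hres ⟨c, hb⟩)
    let D₀ : Derivation ℤ A (ResidueField A) := Derivation.mk'
      (AddMonoidHom.mk' (fun c => DK (residue A c)) (fun c d => by simp)).toIntLinearMap
      (fun c d => by simp [Algebra.smul_def])
    rw [if_pos ⟨D₀, by simp [D₀, hDK]⟩, add_zero]
    choose x hx using fun i => (maximalIdeal A).toCotangent_surjective (b₀ i)
    let y : ULift.{u} (Fin (Module.finrank (ResidueField A) (CotangentSpace A))) → (Root p f) :=
      fun i => algebraMap A (Root p f) (x i.down)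
    have hspan : maximalIdeal (Root p f) ≤ Ideal.span (Set.range y) ⊔ maximalIdeal (Root p f) ^ 2 := by
      intro b hb
      obtain ⟨P₀, rfl⟩ := AdjoinRoot.mk_surjective b
      have hmonic : (X ^ p - C f).Monic := monic_X_pow_sub_C _ hp.out.ne_zero
      have hPmk : AdjoinRoot.mk (X ^ p - C f) P₀ = AdjoinRoot.mk _ (P₀ %ₘ (X ^ p - C f)) := by
        rw [AdjoinRoot.mk_eq_mk]
        exact ⟨P₀ /ₘ (X ^ p - C f), by rw [sub_eq_iff_eq_add, add_comm, modByMonic_add_div]⟩
      rw [hPmk] at hb ⊢
      have hPdeg : (P₀ %ₘ (X ^ p - C f)).natDegree < p := by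
        have h := natDegree_modByMonic_lt P₀ hmonic (fun h1 => hp.out.ne_zero (by
          simpa using (congrArg natDegree h1)))
        rwa [natDegree_X_pow_sub_C] at h
      set P := P₀ %ₘ (X ^ p - C f)
      have hP := (mem_maximalIdeal_iff p f _ (pow_eq_algebraMap p f P).symm).mp hb
      have hzero : ((P.map (residue A)).map (frobenius (ResidueField A) p)) = 0 := by
        refine eq_zero_of_eval_eq_zero p DK hDK _ (fun k => ?_)
          (lt_of_le_of_lt ((natDegree_map_le).trans natDegree_map_le) hPdeg) ?_
        · rw [coeff_map, frobenius_def, Derivation.leibniz_pow, nsmul_eq_mul, CharP.cast_eq_zero, zero_mul]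
        · rw [Polynomial.map_map, ← RingHom.frobenius_comm, ← Polynomial.map_map, Polynomial.eval_map_apply]
          exact (residue_eq_zero_iff _).mpr hP
      have hcoeff : ∀ k, P.coeff k ∈ maximalIdeal A := fun k => by
        have := congrArg (fun Q => coeff Q k) hzero
        simp only [coeff_map, coeff_zero, frobenius_def] at this
        exact (residue_eq_zero_iff _).mp (eq_zero_of_pow_eq_zero this)
      rw [P.as_sum_range_C_mul_X_pow, map_sum]
      refine Ideal.sum_mem _ fun k _ => ?_
      rw [map_mul, AdjoinRoot.mk_C]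
      refine Ideal.mul_mem_right _ _ ?_
      refine (sup_le_sup_right (Ideal.span_mono ?_) _ : _ ≤ Ideal.span (Set.range y) ⊔ maximalIdeal (Root p f) ^ 2) (hspanA (κ := ULift (Fin _)) (fun i => (x i.down : A)) ?_ _ (hcoeff k))
      · rintro _ ⟨i, rfl⟩
        exact ⟨i, rfl⟩
      · refine (le_span_of_basis b₀ x hx).trans (sup_le_sup_right (Ideal.span_mono ?_) _)
        rintro _ ⟨i, rfl⟩
        exact ⟨⟨i⟩, rfl⟩
    rw [finrank_cotangent_eq_card y (fun i => algebraMap_mem_maximalIdeal p f (x i.down).2) hspan (fun j => ?_)]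
    · simp
    · obtain ⟨D, hD⟩ := derivations_of_basis p b₀ x hx j.down
      let E : Derivation ℤ A (ResidueField A) := Derivation.mk'
        (AddMonoidHom.mk' (fun c => D c - D f * D₀ c) (fun c d => by rw [map_add, map_add]; ring)).toIntLinearMap
        (fun c d => by
          show D (c * d) - D f * D₀ (c * d) = _
          rw [D.leibniz, D₀.leibniz]
          simp only [AddMonoidHom.coe_toIntLinearMap, AddMonoidHom.mk'_apply, Algebra.smul_def]
          ring)
      have hE : ∀ c, E c = D c - D f * D₀ c := fun c => rfl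
      obtain ⟨D', hD'A, -⟩ := exists_extension p f E (by rw [hE]; simp [D₀, hDK]) 0
      refine ⟨D', fun i => ?_⟩
      show D' (algebraMap A (Root p f) (x i.down)) = _
      rw [hD'A, hE, hD, show D₀ (x i.down : A) = 0 by simp [D₀, (residue_eq_zero_iff _).mpr (x i.down).2],
        mul_zero, sub_zero]
      by_cases hij : i = j
      · subst hij; simp
      · rw [if_neg (fun h => hij (ULift.ext _ _ h)), if_neg hij, map_zero]

end Groth.Agent.PRootLib
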