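import Mathlib
import Groth.Agent.PRootLib.Step

/-!
Adjoining finitely many `p`th roots to a local ring of characteristic `p`.
-/

set_option autoImplicit false
set_option linter.style.haveILetI false

universe u

open IsLocalRing
open scoped TensorProduct

namespace Groth.Agent.PRootLib

variable (p : ℕ) [hp : Fact p.Prime]

/-- The defining ideal. -/
noncomputable def rootIdeal {A : Type u} [CommRing A] {r : ℕ} (f : Fin r → A) : Ideal (MvPolynomial (Fin r) A) :=
  Ideal.span (Set.range fun i => MvPolynomial.X i ^ p - MvPolynomial.C (f i))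

omit hp in
theorem rootIdeal_map_le {A : Type u} [CommRing A] {r : ℕ} (f : Fin r → A) {S : Type u} [CommRing S]
    (φ : MvPolynomial (Fin r) A →+* S) (h : ∀ i, φ (MvPolynomial.X i) ^ p = φ (MvPolynomial.C (f i))) :
    ∀ P ∈ rootIdeal p f, φ P = 0 := by
  intro P hP
  have : rootIdeal p f ≤ RingHom.ker φ := by
    rw [rootIdeal, Ideal.span_le]
    rintro _ ⟨i, rfl⟩
    rw [SetLike.mem_coe, RingHom.mem_ker, map_sub, map_pow, h, sub_self]
  exact this hP

omit hp in
theorem root_pow' {A : Type u} [CommRing A] {f : A} :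
    (AdjoinRoot.root (Polynomial.X ^ p - Polynomial.C f) : Root p f) ^ p = algebraMap A (Root p f) f := by
  have h := AdjoinRoot.eval₂_root (Polynomial.X ^ p - Polynomial.C f)
  rw [Polynomial.eval₂_sub, Polynomial.eval₂_pow, Polynomial.eval₂_X, Polynomial.eval₂_C, sub_eq_zero] at h
  exact h

/-- Adjoining the first root first. -/
theorem exists_equiv_succ {A : Type u} [CommRing A] {r : ℕ} (f : Fin (r + 1) → A) :
    Nonempty ((MvPolynomial (Fin (r + 1)) A ⧸ rootIdeal p f) ≃+*
      (MvPolynomial (Fin r) (Root p (f 0)) ⧸ rootIdeal p (fun i => algebraMap A (Root p (f 0)) (f i.succ)))) := by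
  set I := rootIdeal p f
  set I₁ := rootIdeal p (fun i => algebraMap A (Root p (f 0)) (f i.succ))
  let B := MvPolynomial (Fin (r + 1)) A ⧸ I
  let C₁ := MvPolynomial (Fin r) (Root p (f 0)) ⧸ I₁
  let c : A →+* C₁ := (Ideal.Quotient.mk I₁).comp (MvPolynomial.C.comp (algebraMap A (Root p (f 0))))
  let φ₀ : MvPolynomial (Fin (r + 1)) A →+* C₁ := MvPolynomial.eval₂Hom c
    (Fin.cons (Ideal.Quotient.mk I₁ (MvPolynomial.C (AdjoinRoot.root _))) fun i => Ideal.Quotient.mk I₁ (MvPolynomial.X i))
  have hφ₀ : ∀ P ∈ I, φ₀ P = 0 := by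
    refine rootIdeal_map_le p f φ₀ (fun i => ?_)
    simp only [φ₀, MvPolynomial.eval₂Hom_X', MvPolynomial.eval₂Hom_C]
    refine Fin.cases ?_ (fun j => ?_) i
    · rw [Fin.cons_zero, ← map_pow, ← map_pow, root_pow']
      rfl
    · rw [Fin.cons_succ, ← map_pow, ← sub_eq_zero]
      show Ideal.Quotient.mk I₁ _ - Ideal.Quotient.mk I₁ _ = 0
      rw [← map_sub, Ideal.Quotient.eq_zero_iff_mem]
      exact Ideal.subset_span ⟨j, rfl⟩
  let Φ : B →+* C₁ := Ideal.Quotient.lift I φ₀ hφ₀
  let b : A →+* B := (Ideal.Quotient.mk I).comp MvPolynomial.C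
  have hb : ∀ i, Ideal.Quotient.mk I (MvPolynomial.X i) ^ p = b (f i) := fun i => by
    rw [← map_pow]
    exact Ideal.Quotient.eq.mpr (Ideal.subset_span ⟨i, rfl⟩)
  let ψ₀ : Root p (f 0) →+* B := AdjoinRoot.lift b (Ideal.Quotient.mk I (MvPolynomial.X 0)) (by
    rw [Polynomial.eval₂_sub, Polynomial.eval₂_pow, Polynomial.eval₂_X, Polynomial.eval₂_C, hb, sub_self])
  let ψ₁ : MvPolynomial (Fin r) (Root p (f 0)) →+* B :=
    MvPolynomial.eval₂Hom ψ₀ fun i => Ideal.Quotient.mk I (MvPolynomial.X i.succ)
  have hψ₁ : ∀ P ∈ I₁, ψ₁ P = 0 := by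
    refine rootIdeal_map_le p _ ψ₁ (fun i => ?_)
    simp only [ψ₁, MvPolynomial.eval₂Hom_X', MvPolynomial.eval₂Hom_C, AdjoinRoot.algebraMap_eq, ψ₀, AdjoinRoot.lift_of, hb]
  let Ψ : C₁ →+* B := Ideal.Quotient.lift I₁ ψ₁ hψ₁
  refine ⟨RingEquiv.ofRingHom Φ Ψ ?_ ?_⟩
  · apply Ideal.Quotient.ringHom_ext
    apply MvPolynomial.ringHom_ext
    · intro q
      obtain ⟨P, rfl⟩ := AdjoinRoot.mk_surjective q
      induction P using Polynomial.induction_on with
      | C a => simp [Φ, Ψ, φ₀, ψ₁, ψ₀, b, c]
      | add P Q hP hQ => simp only [map_add, hP, hQ]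
      | monomial k a h =>
        rw [pow_succ, ← mul_assoc]
        simp [Φ, Ψ, φ₀, ψ₁, ψ₀, b, c]
    · intro i
      simp [Φ, Ψ, φ₀, ψ₁]
  · apply Ideal.Quotient.ringHom_ext
    apply MvPolynomial.ringHom_ext
    · intro a
      simp [Φ, Ψ, φ₀, ψ₁, ψ₀, b, c]
    · intro i
      refine Fin.cases ?_ (fun j => ?_) i <;> simp [Φ, Ψ, φ₀, ψ₁, ψ₀]

omit hp in
theorem finrank_cotangent_of_equiv {R S : Type u} [CommRing R] [IsLocalRing R] [IsNoetherianRing R] [CommRing S]
    [IsLocalRing S] (e : R ≃+* S) :
    Module.finrank (ResidueField S) (CotangentSpace S) = Module.finrank (ResidueField R) (CotangentSpace R) := by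
  haveI : IsNoetherianRing S := isNoetherianRing_of_ringEquiv R e
  rw [← spanFinrank_maximalIdeal_eq_finrank_cotangentSpace, ← spanFinrank_maximalIdeal_eq_finrank_cotangentSpace]
  rw [← map_ringEquiv_maximalIdeal e, Ideal.spanFinrank_map_eq_of_ringEquiv]

/-- There is a derivation separating each member from the others. -/
def Separated {A : Type u} [CommRing A] [IsLocalRing A] {r : ℕ} (f : Fin r → A) : Prop :=
  ∀ i, ∃ D : Derivation ℤ A (ResidueField A), ∀ l, D (f l) = if l = i then 1 else 0

variable {A : Type u} [CommRing A] [IsLocalRing A] [CharP A p]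

set_option backward.isDefEq.respectTransparency false in
theorem separated_succ_iff {r : ℕ} (f : Fin (r + 1) → A) :
    Separated f ↔ (∃ D : Derivation ℤ A (ResidueField A), D (f 0) ≠ 0) ∧
      Separated (fun i => algebraMap A (Root p (f 0)) (f i.succ)) := by
  classical
  haveI : CharP (ResidueField (Root p (f 0))) p := by
    refine (CharP.charP_iff_prime_eq_zero hp.out).mpr ?_
    rw [← map_natCast (residue (Root p (f 0))), CharP.cast_eq_zero, map_zero]
  constructor
  · intro h
    obtain ⟨D₀, hD₀⟩ := h 0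
    refine ⟨⟨D₀, by rw [hD₀, if_pos rfl]; exact one_ne_zero⟩, fun i => ?_⟩
    obtain ⟨D, hD⟩ := h i.succ
    obtain ⟨D', hD', -⟩ := exists_extension p (f 0) D (by rw [hD, if_neg (Fin.succ_ne_zero i).symm]) 0
    refine ⟨D', fun l => ?_⟩
    rw [hD', hD]
    by_cases hli : l = i
    · subst hli; simp
    · rw [if_neg (fun h => hli (Fin.succ_injective _ h)), if_neg hli, map_zero]
  · rintro ⟨⟨D₀, hD₀⟩, h⟩
    obtain ⟨φ, hφ⟩ := Module.Projective.exists_dual_eq_one (ResidueField A) (x := (1 : ResidueField (Root p (f 0))))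
      one_ne_zero
    choose D₁ hD₁ using h
    let E : Fin r → Derivation ℤ A (ResidueField A) := fun i => Derivation.mk'
      (AddMonoidHom.mk' (fun a => φ (D₁ i (algebraMap A _ a))) (fun a b => by simp only [map_add])).toIntLinearMap
      (fun a b => by
        have hs : ∀ (a : A) (w : ResidueField (Root p (f 0))),
            φ (algebraMap A (Root p (f 0)) a • w) = a • φ w := by
          intro a w
          rw [show algebraMap A (Root p (f 0)) a • w = residue A a • w by
            rw [Algebra.smul_def, Algebra.smul_def]; rfl,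
            φ.map_smul, smul_eq_mul, Algebra.smul_def, ResidueField.algebraMap_eq]
        simp only [AddMonoidHom.coe_toIntLinearMap, AddMonoidHom.mk'_apply, map_mul, Derivation.leibniz, map_add, hs])
    have hE : ∀ i a, E i a = φ (D₁ i (algebraMap A _ a)) := fun i a => rfl
    have hE0 : ∀ i, E i (f 0) = 0 := fun i => by
      rw [hE, ← root_pow, Derivation.leibniz_pow, ← Nat.cast_smul_eq_nsmul (ResidueField (Root p (f 0))),
        CharP.cast_eq_zero, zero_smul, map_zero]
    have hEl : ∀ i l, E i (f l.succ) = if l = i then 1 else 0 := fun i l => by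
      rw [hE, hD₁]
      split_ifs
      · exact hφ
      · exact map_zero φ
    intro i
    refine Fin.cases ?_ (fun j => ?_) i
    · obtain ⟨s, hs⟩ := residue_surjective (R := A) (D₀ (f 0))⁻¹
      choose c hc using fun l : Fin r => residue_surjective (R := A) ((D₀ (f 0))⁻¹ * D₀ (f l.succ))
      refine ⟨s • D₀ - ∑ l, c l • E l, fun m => ?_⟩
      rw [Derivation.sub_apply, Derivation.smul_apply]
      have hsum : ∀ a, (∑ l, c l • E l : Derivation ℤ A (ResidueField A)) a = ∑ l, c l • E l a := fun a => by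
        rw [← Derivation.coeFnAddMonoidHom_apply, map_sum, Finset.sum_apply]
        rfl
      rw [hsum]
      refine Fin.cases ?_ (fun k => ?_) m
      · simp [hE0, Algebra.smul_def, ResidueField.algebraMap_eq, hs, hD₀]
      · simp [hEl, Algebra.smul_def, ResidueField.algebraMap_eq, hs, hc, Fin.succ_ne_zero, Finset.sum_ite_eq]
    · refine ⟨E j, fun m => ?_⟩
      refine Fin.cases ?_ (fun k => ?_) m
      · rw [hE0, if_neg (Fin.succ_ne_zero j).symm]
      · rw [hEl]
        simp [Fin.succ_inj]

theorem main : ∀ (r : ℕ) {A : Type u} [CommRing A] [IsLocalRing A] [IsNoetherianRing A] [CharP A p] (f : Fin r → A),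
    ∃ _ : IsLocalRing (MvPolynomial (Fin r) A ⧸ rootIdeal p f),
      Module.finrank (ResidueField A) (CotangentSpace A) ≤
          Module.finrank (ResidueField (MvPolynomial (Fin r) A ⧸ rootIdeal p f))
            (CotangentSpace (MvPolynomial (Fin r) A ⧸ rootIdeal p f)) ∧
        (Module.finrank (ResidueField A) (CotangentSpace A) =
            Module.finrank (ResidueField (MvPolynomial (Fin r) A ⧸ rootIdeal p f))
              (CotangentSpace (MvPolynomial (Fin r) A ⧸ rootIdeal p f)) ↔ Separated f) := by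
  intro r
  induction r with
  | zero =>
    intro A _ _ _ _ f
    have hbot : rootIdeal p f = ⊥ := by
      rw [rootIdeal, Set.range_eq_empty, Ideal.span_empty]
    let e : A ≃+* (MvPolynomial (Fin 0) A ⧸ rootIdeal p f) :=
      (MvPolynomial.isEmptyRingEquiv A (Fin 0)).symm.trans
        ((RingEquiv.quotientBot _).symm.trans (Ideal.quotEquivOfEq hbot.symm))
    haveI : IsLocalRing (MvPolynomial (Fin 0) A ⧸ rootIdeal p f) := e.isLocalRing
    exact ⟨‹_›, (finrank_cotangent_of_equiv e).ge, iff_of_true (finrank_cotangent_of_equiv e).symm (fun i => i.elim0)⟩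
  | succ r ih =>
    intro A _ _ _ _ f
    classical
    haveI : IsNoetherianRing (Root p (f 0)) := IsNoetherianRing.of_finite A _
    obtain ⟨hloc, hle, hiff⟩ := ih (fun i => algebraMap A (Root p (f 0)) (f i.succ))
    obtain ⟨e⟩ := exists_equiv_succ p f
    haveI : IsLocalRing (MvPolynomial (Fin (r + 1)) A ⧸ rootIdeal p f) := e.symm.isLocalRing
    have he := finrank_cotangent_of_equiv e.symm
    have hstep := finrank_cotangent_root p (f 0) (A := A)
    refine ⟨‹_›, ?_, ?_⟩
    · rw [he]; omega
    · rw [he, separated_succ_iff p f, ← hiff]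
      by_cases h : ∃ D : Derivation ℤ A (ResidueField A), D (f 0) ≠ 0
      · rw [if_pos h] at hstep
        simp only [h, true_and]
        omega
      · rw [if_neg h] at hstep
        simp only [h, false_and, iff_false]
        omega

theorem separated_iff_linearIndependent {r : ℕ} (f : Fin r → A) :
    Separated f ↔
      LinearIndependent (ResidueField A) (fun i => (1 : ResidueField A) ⊗ₜ[A] KaehlerDifferential.D ℤ A (f i)) := by
  classical
  constructor
  · intro h
    rw [Fintype.linearIndependent_iff]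
    intro c hc i
    obtain ⟨D, hD⟩ := h i
    have hv : ∀ l, LinearMap.liftBaseChange (ResidueField A) D.liftKaehlerDifferential
        ((1 : ResidueField A) ⊗ₜ[A] KaehlerDifferential.D ℤ A (f l)) = if l = i then 1 else 0 := fun l => by
      rw [LinearMap.liftBaseChange_tmul, one_smul, Derivation.liftKaehlerDifferential_comp_D, hD]
    have := congrArg (LinearMap.liftBaseChange (ResidueField A) D.liftKaehlerDifferential) hc
    rw [map_sum, map_zero, Finset.sum_eq_single_of_mem i (Finset.mem_univ i)] at this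
    · rwa [map_smul, hv, if_pos rfl, smul_eq_mul, mul_one] at this
    · intro l _ hl
      rw [map_smul, hv, if_neg hl, smul_zero]
  · intro h i
    obtain ⟨ψ, hψ⟩ := LinearMap.exists_extend
      ((Finsupp.lapply i).comp h.repr : Submodule.span (ResidueField A) (Set.range _) →ₗ[ResidueField A] ResidueField A)
    let g : Ω[A⁄ℤ] →ₗ[A] ResidueField A :=
      (ψ.restrictScalars A).comp (TensorProduct.mk A (ResidueField A) (Ω[A⁄ℤ]) 1)
    refine ⟨g.compDer (KaehlerDifferential.D ℤ A), fun l => ?_⟩
    show ψ ((1 : ResidueField A) ⊗ₜ[A] KaehlerDifferential.D ℤ A (f l)) = _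
    have h1 := LinearMap.congr_fun hψ ⟨_, Submodule.subset_span (Set.mem_range_self l)⟩
    rw [LinearMap.comp_apply, Submodule.subtype_apply] at h1
    rw [h1, LinearMap.comp_apply, Finsupp.lapply_apply, LinearIndependent.repr_eq_single h l _ rfl,
      Finsupp.single_apply]

end Groth.Agent.PRootLib
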